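import Cfsg.Agent.H75.Step1

/-!
# Elements of `P_e` commuting with a fixed point free element are conjugate into `H`

Variants of `H75.OrthIdx.step1` (helper75): `factor`, `step1_comm`.
-/

set_option autoImplicit false
set_option linter.unusedSectionVars false

namespace Cfsg.Agent.H76.StepComm

open QuadraticMap Cfsg.Agent.LieClassical.OrthCore Cfsg.Agent.LieClassical.OrthTrans
open Cfsg.Agent.H75.OrthIdx

variable {F V : Type*} [Field F] [AddCommGroup V] [Module F V] {Q : QuadraticForm F V}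
variable [Finite F] [FiniteDimensional F V]

/-- If `H` contains no nontrivial Siegel transformation with point `e` and has index less than
`2 q^(d-2)`, then `P_e = (H ∩ P_e) rad`. -/
theorem factor (hG : Good Q) {H : Subgroup (V ≃ₗ[F] V)}
    (hn : H.relIndex (E Q) < 2 * Nat.card F ^ (Module.finrank F V - 2))
    {e : V} (he0 : e ≠ 0) (heQ : Q e = 0)
    (htriv : ∀ v ∈ Bs Q H e, v ∈ Submodule.span F {e}) : Pst Q e ≤ HR Q H e := by
  classical
  have hQ := hG.nondeg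
  have hfin := finite_equiv (F := F) (V := V)
  have hd1 : 1 ≤ Module.finrank F V := by
    have := finrank_ep hQ he0
    omega
  have hradidx : H.relIndex (rad Q e) = Nat.card F ^ (Module.finrank F V - 2) := by
    have h1 := relIndex_rad_mul hQ he0 H
    have h2 : Nat.card (Bs Q H e) = Nat.card F := by
      have h3 : (Bs Q H e : Set V) = (Submodule.span F {e} : Set V) := by
        ext v
        constructor
        · exact htriv v
        · intro hv
          obtain ⟨a, rfl⟩ := Submodule.mem_span_singleton.1 hv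
          exact ⟨by rw [polar_smul_right, polar_self_of_sing heQ, smul_zero], by
            rw [sg_smul_self heQ]; exact H.one_mem⟩
      have h4 : (Bs Q H e : Set V).ncard = (Submodule.span F {e} : Set V).ncard := by rw [h3]
      have h5 : Nat.card (Bs Q H e) = (Bs Q H e : Set V).ncard := rfl
      have h6 : (Submodule.span F {e} : Set V).ncard = Nat.card (Submodule.span F {e}) := rfl
      rw [h5, h4, h6, Module.natCard_eq_pow_finrank (K := F) (V := Submodule.span F {e}),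
        finrank_span_singleton he0, pow_one]
    rw [h2] at h1
    have h5 : 2 ≤ Module.finrank F V := by
      by_contra hcon
      have h6 : Module.finrank F V = 1 := by omega
      have h7 := finrank_ep hQ he0
      have h8 : Module.finrank F (ep Q e) = 0 := by omega
      have h9 := Submodule.finrank_eq_zero.1 h8
      have h10 : e ∈ ep Q e := mem_ep.2 (polar_self_of_sing heQ)
      rw [h9] at h10
      exact he0 ((Submodule.mem_bot F).1 h10)
    have h3 : Nat.card F ^ (Module.finrank F V - 1) =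
        Nat.card F ^ (Module.finrank F V - 2) * Nat.card F := by
      rw [← pow_succ]; congr 1; omega
    rw [h3] at h1
    exact Nat.eq_of_mul_eq_mul_right Nat.card_pos h1
  have hHK : H ⊓ Pst Q e ≤ HR Q H e := by
    intro g hg
    exact ⟨g, hg, 1, Subgroup.one_mem _, by rw [mul_one]⟩
  have hRK : rad Q e ≤ HR Q H e := by
    intro g hg
    exact ⟨1, Subgroup.one_mem _, g, hg, by rw [one_mul]⟩
  have hKP : HR Q H e ≤ Pst Q e := by
    rintro g ⟨h, hh, ρ, hρ, rfl⟩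
    exact (Pst Q e).mul_mem hh.2 (rad_le_Pst heQ hρ)
  have h1 : (H ⊓ Pst Q e).relIndex (HR Q H e) * (HR Q H e).relIndex (Pst Q e) =
      (H ⊓ Pst Q e).relIndex (Pst Q e) := Subgroup.relIndex_mul_relIndex _ _ _ hHK hKP
  have h2 : (H ⊓ Pst Q e).relIndex (Pst Q e) = H.relIndex (Pst Q e) :=
    Subgroup.inf_relIndex_right _ _
  have h3 : H.relIndex (Pst Q e) ≤ H.relIndex (E Q) :=
    Subgroup.relIndex_le_of_le_right (Pst_le_E e) (relIndex_ne _ _)
  have h4 : H.relIndex (rad Q e) ≤ (H ⊓ Pst Q e).relIndex (HR Q H e) :=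
    (Subgroup.relIndex_le_of_le_left inf_le_left (relIndex_ne _ _)).trans
      (Subgroup.relIndex_le_of_le_right hRK (relIndex_ne _ _))
  rw [hradidx] at h4
  have h5 : (HR Q H e).relIndex (Pst Q e) = 1 := by
    have h6 : (HR Q H e).relIndex (Pst Q e) ≠ 0 := relIndex_ne _ _
    by_contra h7
    have h8 : 2 ≤ (HR Q H e).relIndex (Pst Q e) := by omega
    have h9 := Nat.mul_le_mul h4 h8
    rw [h1, h2] at h9
    omega
  exact Subgroup.relIndex_eq_one.1 h5

/-- An element `y` of `P_e` commuting with a fixed point free element `z` is conjugate under `rad`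
to an element of `H`. -/
theorem step1_comm (hG : Good Q) {H : Subgroup (V ≃ₗ[F] V)}
    (hn : H.relIndex (E Q) < 2 * Nat.card F ^ (Module.finrank F V - 2))
    {e : V} (he0 : e ≠ 0) (heQ : Q e = 0)
    (htriv : ∀ v ∈ Bs Q H e, v ∈ Submodule.span F {e})
    {c : F} {z : V ≃ₗ[F] V} (hz : z ∈ E Q) (hc : c ≠ 0) (hze : z e = c • e)
    (hfpf : ∀ v, polar Q e v = 0 → c • z v - v ∈ Submodule.span F {e} →
      v ∈ Submodule.span F {e})
    {y : V ≃ₗ[F] V} (hyP : y ∈ Pst Q e) (hzy : z * y = y * z) :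
    ∃ x ∈ rad Q e, x * y * x⁻¹ ∈ H := by
  classical
  have hQ := hG.nondeg
  have hfin := finite_equiv (F := F) (V := V)
  have hd1 : 1 ≤ Module.finrank F V := by
    have := finrank_ep hQ he0
    omega
  -- `H ⊓ rad = 1`
  have hHrad : ∀ g ∈ H, g ∈ rad Q e → g = 1 := by
    intro g hgH hg
    obtain ⟨v, hv, rfl⟩ := mem_rad.1 hg
    obtain ⟨a, rfl⟩ := Submodule.mem_span_singleton.1 (htriv v ⟨hv, hgH⟩)
    exact sg_smul_self heQ a
  have hzP : z ∈ Pst Q e := ⟨hz, c, hc, hze⟩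
  -- `rad` acts fixed point freely
  have hfree : ∀ x ∈ rad Q e, z * x = x * z → x = 1 := by
    intro x hx hxz
    obtain ⟨v, hv, rfl⟩ := mem_rad.1 hx
    have h1 : z * sg Q e v * z⁻¹ = sg Q e v := by rw [hxz, mul_inv_cancel_right]
    rw [conj_sg (E_le_O hz) hc hze] at h1
    have h3 : polar Q e (c • z v) = 0 := by
      have h4 := polar_map (E_le_O hz) e v
      rw [hze, polar_smul_left, hv] at h4
      rw [polar_smul_right]; exact h4
    have h2 : sg Q e (c • z v - v) = 1 := by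
      have hv' : polar Q e (-v) = 0 := by rw [polar_neg_right, hv, neg_zero]
      rw [sub_eq_add_neg, ← sg_mul h3 hv', h1, ← sg_inv hv, mul_inv_cancel]
    obtain ⟨a, ha⟩ := eq_smul_of_sg_eq_one hQ heQ he0 (by
      rw [polar_sub_right, h3, hv, sub_zero]) h2
    obtain ⟨b, rfl⟩ := Submodule.mem_span_singleton.1 (hfpf v hv (by
      rw [ha]; exact Submodule.smul_mem _ _ (Submodule.mem_span_singleton_self e)))
    exact sg_smul_self heQ b
  have hP : Pst Q e ≤ HR Q H e := factor hG hn he0 heQ htriv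
  -- `z` is conjugate to an element of `H`
  obtain ⟨h0, hh0, ρ, hρ, hzh⟩ := hP hzP
  have hx : ∃ x ∈ rad Q e, x * z * x⁻¹ = h0 := by
    let φ : rad Q e → rad Q e := fun x =>
      ⟨z⁻¹ * x * z * (x : V ≃ₗ[F] V)⁻¹, (rad Q e).mul_mem (by
        have := conj_mem_rad (Subgroup.inv_mem _ hzP) x.2
        rwa [inv_inv] at this) ((rad Q e).inv_mem x.2)⟩
    have hφ : Function.Injective φ := by
      intro x y hxy
      have h1 : z⁻¹ * x * z * (x : V ≃ₗ[F] V)⁻¹ = z⁻¹ * y * z * (y : V ≃ₗ[F] V)⁻¹ :=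
        congrArg Subtype.val hxy
      have h2 : z * ((y : V ≃ₗ[F] V)⁻¹ * x) = ((y : V ≃ₗ[F] V)⁻¹ * x) * z := by
        have h3 : (z⁻¹ * (y : V ≃ₗ[F] V) * z)⁻¹ * (z⁻¹ * x * z) =
            (y : V ≃ₗ[F] V)⁻¹ * x := by
          calc (z⁻¹ * (y : V ≃ₗ[F] V) * z)⁻¹ * (z⁻¹ * x * z)
              = (z⁻¹ * (y : V ≃ₗ[F] V) * z)⁻¹ * (z⁻¹ * x * z * (x : V ≃ₗ[F] V)⁻¹) * x := by
                group
            _ = (y : V ≃ₗ[F] V)⁻¹ * x := by rw [h1]; group
        calc z * ((y : V ≃ₗ[F] V)⁻¹ * x) = z * ((z⁻¹ * (y : V ≃ₗ[F] V) * z)⁻¹ * (z⁻¹ * x * z)) := by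
              rw [h3]
          _ = _ := by group
      have h4 := hfree _ ((rad Q e).mul_mem ((rad Q e).inv_mem y.2) x.2) h2
      apply Subtype.ext
      exact (inv_mul_eq_one.1 h4).symm
    have hsurj := Finite.surjective_of_injective hφ
    obtain ⟨x, hxρ⟩ := hsurj ⟨ρ⁻¹, (rad Q e).inv_mem hρ⟩
    have h1 : z⁻¹ * x * z * (x : V ≃ₗ[F] V)⁻¹ = ρ⁻¹ := congrArg Subtype.val hxρ
    refine ⟨x, x.2, ?_⟩
    calc (x : V ≃ₗ[F] V) * z * (x : V ≃ₗ[F] V)⁻¹ = z * (z⁻¹ * x * z * (x : V ≃ₗ[F] V)⁻¹) := by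
          group
      _ = h0 := by rw [h1, hzh, mul_inv_cancel_right]
  obtain ⟨x, hx, hxz⟩ := hx
  refine ⟨x, hx, ?_⟩
  have hxP := rad_le_Pst heQ hx
  obtain ⟨h1, hh1, ρ1, hρ1, hyh⟩ := hP ((Pst Q e).mul_mem ((Pst Q e).mul_mem hxP hyP)
    (Subgroup.inv_mem _ hxP))
  -- `h0` commutes with `x y x⁻¹ = h1 ρ1`
  have h3 : h0 * (h1 * ρ1) = (h1 * ρ1) * h0 := by
    rw [← hyh, ← hxz]
    calc x * z * x⁻¹ * (x * y * x⁻¹) = x * (z * y) * x⁻¹ := by group
      _ = x * (y * z) * x⁻¹ := by rw [hzy]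
      _ = _ := by group
  have hh0' : h0 ∈ H := hh0.1
  have hh1' : h1 ∈ H := hh1.1
  have h4 : h1⁻¹ * h0 * h1 * h0⁻¹ = ρ1 * (h0 * ρ1⁻¹ * h0⁻¹) := by
    have h5 : h0 * h1 = h1 * ρ1 * h0 * ρ1⁻¹ := by rw [← h3]; group
    calc h1⁻¹ * h0 * h1 * h0⁻¹ = h1⁻¹ * (h0 * h1) * h0⁻¹ := by group
      _ = h1⁻¹ * (h1 * ρ1 * h0 * ρ1⁻¹) * h0⁻¹ := by rw [h5]
      _ = _ := by group
  have h5 : ρ1 * (h0 * ρ1⁻¹ * h0⁻¹) = 1 := by
    apply hHrad
    · rw [← h4]
      exact H.mul_mem (H.mul_mem (H.mul_mem (H.inv_mem hh1') hh0') hh1') (H.inv_mem hh0')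
    · exact (rad Q e).mul_mem hρ1 (conj_mem_rad hh0.2 ((rad Q e).inv_mem hρ1))
  have h6 : h0 * ρ1 = ρ1 * h0 := by
    have h7 : h0 * ρ1 * h0⁻¹ = ρ1 := by
      have h8 : ρ1 = (h0 * ρ1⁻¹ * h0⁻¹)⁻¹ := eq_inv_of_mul_eq_one_left h5
      have h9 : (h0 * ρ1⁻¹ * h0⁻¹)⁻¹ = h0 * ρ1 * h0⁻¹ := by group
      rw [h9] at h8
      exact h8.symm
    calc h0 * ρ1 = h0 * ρ1 * h0⁻¹ * h0 := by group
      _ = _ := by rw [h7]
  have h7 : ρ1 = 1 := by
    apply hfree ρ1 hρ1
    rw [← hxz] at h6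
    have h8 := mul_comm_rad hx hρ1
    calc z * ρ1 = x⁻¹ * ((x * z * x⁻¹) * (x * ρ1)) := by group
      _ = x⁻¹ * ((x * z * x⁻¹) * (ρ1 * x)) := by rw [h8]
      _ = x⁻¹ * ((x * z * x⁻¹ * ρ1) * x) := by group
      _ = x⁻¹ * ((ρ1 * (x * z * x⁻¹)) * x) := by rw [h6]
      _ = x⁻¹ * (ρ1 * x) * z := by group
      _ = x⁻¹ * (x * ρ1) * z := by rw [h8]
      _ = ρ1 * z := by group
  rw [hyh, h7, mul_one]
  exact hh1'


end Cfsg.Agent.H76.StepComm
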