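import Cfsg.Agent.H76.Link
import Cfsg.Agent.H76.StepComm

/-!
# Products of reflections, and nontrivial Siegel transformations in `H` for the field with two
elements
-/

set_option autoImplicit false
set_option linter.unusedSectionVars false

namespace Cfsg.Agent.H76.ReflProd

open QuadraticMap Cfsg.Agent.LieClassical.OrthCore Cfsg.Agent.LieClassical.OrthTrans
open Cfsg.Agent.LieClassical.OrthFinite
open Cfsg.Agent.H76.Trans Cfsg.Agent.H76.Link Cfsg.Agent.H76.StepComm
open Cfsg.Agent.H75.OrthIdx (PP Bs Pst perp mem_perp perp_span finrank_perp finrank_perp_add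
  perp_perp ts_sup sg sg_apply sg_mem_E sg_mem_O sg_conj sg_fix sg_swap sg_add_smul rad rad_le_Pst
  finrank_span_pair_le)

variable {F V : Type*} [Field F] [AddCommGroup V] [Module F V] {Q : QuadraticForm F V}

/-- **Products of reflections in independent vectors**: `z` fixes exactly the vectors orthogonal
to all `b i`. -/
theorem exists_prod (hG : Good Q) (hF : ∀ c : F, c = 0 ∨ c = 1) {a0 : V} (ha0 : Q a0 ≠ 0) :
    ∀ (k : ℕ) (b : Fin k → V), LinearIndependent F b → (∀ i, Q (b i) ≠ 0) →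
      ∃ z ∈ O Q, z * refl Q a0 ha0 ^ k ∈ E Q ∧ (∀ v, (∀ i, polar Q (b i) v = 0) → z v = v) ∧
        (∀ v, z v = v → ∀ i, polar Q (b i) v = 0) ∧
        ∀ v, z v - v ∈ Submodule.span F (Set.range b) := by
  intro k
  induction k with
  | zero =>
    intro b _ _
    refine ⟨1, (O Q).one_mem, ?_, fun v _ => rfl, fun v _ i => i.elim0, fun v => ?_⟩
    · rw [pow_zero, mul_one]; exact (E Q).one_mem
    · show v - v ∈ _
      rw [sub_self]; exact Submodule.zero_mem _
  | succ k ih =>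
    intro b hb hbQ
    obtain ⟨z, hzO, hzE, h1, h2, h3⟩ := ih (fun i => b i.succ) (hb.comp _ (Fin.succ_injective k))
      fun i => hbQ i.succ
    have hb0 : b 0 ∉ Submodule.span F (Set.range fun i : Fin k => b i.succ) := by
      have h4 : b = (Fin.cons (b 0) (fun i => b i.succ) : Fin (k + 1) → V) :=
        (Fin.cons_self_tail b).symm
      rw [h4, linearIndependent_finCons] at hb
      exact hb.2
    have h1' : ∀ c : F, c ≠ 0 → c = 1 := fun c hc => (hF c).resolve_left hc
    have hQQ : Q a0 = Q (b 0) := (h1' _ ha0).trans (h1' _ (hbQ 0)).symm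
    have hsq : refl Q a0 ha0 * refl Q a0 ha0 = 1 := refl_mul_self ha0
    refine ⟨refl Q (b 0) (hbQ 0) * z, (O Q).mul_mem (refl_mem_O _) hzO, ?_, ?_, ?_, ?_⟩
    · have h5 : refl Q (b 0) (hbQ 0) * z * refl Q a0 ha0 ^ (k + 1) =
          (refl Q (b 0) (hbQ 0) * refl Q a0 ha0) *
            (refl Q a0 ha0 * (z * refl Q a0 ha0 ^ k) * (refl Q a0 ha0)⁻¹) := by
        rw [refl_inv, pow_succ]
        calc refl Q (b 0) (hbQ 0) * z * (refl Q a0 ha0 ^ k * refl Q a0 ha0)
            = refl Q (b 0) (hbQ 0) * 1 * (z * refl Q a0 ha0 ^ k) * refl Q a0 ha0 := by group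
          _ = refl Q (b 0) (hbQ 0) * (refl Q a0 ha0 * refl Q a0 ha0) * (z * refl Q a0 ha0 ^ k) *
              refl Q a0 ha0 := by rw [hsq]
          _ = _ := by simp only [mul_assoc]
      rw [h5]
      exact (E Q).mul_mem (hG.refl_mul_refl_mem ha0 (hbQ 0) hQQ)
        (conj_mem_E (refl_mem_O ha0) hzE)
    · intro v hv
      have h4 : z v = v := h1 v fun i => hv i.succ
      show refl Q (b 0) (hbQ 0) (z v) = v
      rw [h4, refl_apply, hv 0, mul_zero, zero_smul, sub_zero]
    · intro v hv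
      have h4 : refl Q (b 0) (hbQ 0) (z v) = v := hv
      rw [refl_apply] at h4
      have h5 : z v - v = ((Q (b 0))⁻¹ * polar Q (b 0) (z v)) • b 0 := by
        exact sub_eq_iff_eq_add'.2 (sub_eq_iff_eq_add.1 h4)
      have h6 : (Q (b 0))⁻¹ * polar Q (b 0) (z v) = 0 := by
        by_contra hne
        apply hb0
        have h7 := h3 v
        rw [h5] at h7
        have h8 := Submodule.smul_mem _ ((Q (b 0))⁻¹ * polar Q (b 0) (z v))⁻¹ h7
        rwa [smul_smul, inv_mul_cancel₀ hne, one_smul] at h8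
      rw [h6, zero_smul, sub_eq_zero] at h5
      have h7 : polar Q (b 0) v = 0 := by
        rw [h5] at h6
        exact (mul_eq_zero.1 h6).resolve_left (inv_ne_zero (hbQ 0))
      intro i
      refine Fin.cases h7 (fun i => ?_) i
      exact h2 v h5 i
    · intro v
      have h4 : (refl Q (b 0) (hbQ 0) * z) v - v =
          (z v - v) + (-((Q (b 0))⁻¹ * polar Q (b 0) (z v))) • b 0 := by
        show refl Q (b 0) (hbQ 0) (z v) - v = _
        rw [refl_apply]
        module
      rw [h4]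
      refine Submodule.add_mem _ ?_ (Submodule.smul_mem _ _ (Submodule.subset_span ⟨0, rfl⟩))
      refine Submodule.span_mono ?_ (h3 v)
      rintro _ ⟨i, rfl⟩
      exact ⟨i.succ, rfl⟩

variable [Finite F] [Finite V]

/-- enlarging a totally singular subspace -/
theorem ts_step [FiniteDimensional F V] {R : Submodule F V} (hR : ∀ x ∈ R, Q x = 0) {x y : V}
    (hx : Q x = 0) (hRx : ∀ r ∈ R, polar Q r x = 0) (hRy : ∀ r ∈ R, polar Q r y = 0)
    (hxy : polar Q x y ≠ 0) :
    (∀ v ∈ R ⊔ Submodule.span F {x}, Q v = 0) ∧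
      Module.finrank F R + 1 ≤ Module.finrank F ↥(R ⊔ Submodule.span F {x}) := by
  refine ⟨ts_sup hR ?_ ?_, ?_⟩
  · intro v hv
    obtain ⟨c, rfl⟩ := Submodule.mem_span_singleton.1 hv
    rw [QuadraticMap.map_smul, hx, smul_zero]
  · intro r hr v hv
    obtain ⟨c, rfl⟩ := Submodule.mem_span_singleton.1 hv
    rw [polar_smul_right, hRx r hr, smul_zero]
  · apply Submodule.finrank_lt_finrank_of_lt
    refine lt_of_le_of_ne le_sup_left fun heq => ?_
    have h3 : x ∈ R := by
      rw [heq]; exact Submodule.mem_sup_right (Submodule.mem_span_singleton_self x)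
    exact hxy (hRy x h3)

/-- Three orthogonal hyperbolic pairs. -/
structure Three (Q : QuadraticForm F V) (e f e₁ f₁ e₂ f₂ : V) : Prop where
  h : Hyp Q e f
  h₁ : Hyp Q e₁ f₁
  h₂ : Hyp Q e₂ f₂
  a1 : polar Q e e₁ = 0
  a2 : polar Q e f₁ = 0
  a3 : polar Q f e₁ = 0
  a4 : polar Q f f₁ = 0
  b1 : polar Q e e₂ = 0
  b2 : polar Q e f₂ = 0
  b3 : polar Q f e₂ = 0
  b4 : polar Q f f₂ = 0
  c1 : polar Q e₁ e₂ = 0
  c2 : polar Q e₁ f₂ = 0
  c3 : polar Q f₁ e₂ = 0
  c4 : polar Q f₁ f₂ = 0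

theorem exists_three (hG : Good Q) (hd : 7 ≤ Module.finrank F V) :
    ∃ e f e₁ f₁ e₂ f₂, Three Q e f e₁ f₁ e₂ f₂ := by
  obtain ⟨e, f, h⟩ := hG.exists_hyp
  obtain ⟨e₁, f₁, h₁, a1, a2, a3, a4⟩ := hG.exists_hyp2 h
  obtain ⟨e₂, he₂0, he₂, hp⟩ := exists_sing_perp (Q := Q) ![e, f, e₁, f₁] (by omega)
  have p0 : polar Q e e₂ = 0 := hp 0
  have p1 : polar Q f e₂ = 0 := hp 1
  have p2 : polar Q e₁ e₂ = 0 := hp 2
  have p3 : polar Q f₁ e₂ = 0 := hp 3
  obtain ⟨v, hv⟩ := hG.nondeg.exists_polar_eq he₂0 1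
  set v' := v - polar Q f v • e - polar Q e v • f - polar Q f₁ v • e₁ - polar Q e₁ v • f₁ with hv'
  have e₂e : polar Q e₂ e = 0 := by rw [polar_comm]; exact p0
  have e₂f : polar Q e₂ f = 0 := by rw [polar_comm]; exact p1
  have e₂e₁ : polar Q e₂ e₁ = 0 := by rw [polar_comm]; exact p2
  have e₂f₁ : polar Q e₂ f₁ = 0 := by rw [polar_comm]; exact p3
  have e₁e : polar Q e₁ e = 0 := by rw [polar_comm]; exact a1
  have e₁f : polar Q e₁ f = 0 := by rw [polar_comm]; exact a3
  have f₁e : polar Q f₁ e = 0 := by rw [polar_comm]; exact a2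
  have f₁f : polar Q f₁ f = 0 := by rw [polar_comm]; exact a4
  have q0 : polar Q e v' = 0 := by
    rw [hv']
    simp only [polar_sub_right, polar_smul_right, h.polar_left, h.pair, a1, a2, smul_eq_mul]
    ring
  have q1 : polar Q f v' = 0 := by
    rw [hv']
    simp only [polar_sub_right, polar_smul_right, h.polar_right, h.pair', a3, a4, smul_eq_mul]
    ring
  have q2 : polar Q e₁ v' = 0 := by
    rw [hv']
    simp only [polar_sub_right, polar_smul_right, h₁.polar_left, h₁.pair, e₁e, e₁f, smul_eq_mul]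
    ring
  have q3 : polar Q f₁ v' = 0 := by
    rw [hv']
    simp only [polar_sub_right, polar_smul_right, h₁.polar_right, h₁.pair', f₁e, f₁f, smul_eq_mul]
    ring
  have q4 : polar Q e₂ v' = 1 := by
    rw [hv']
    simp only [polar_sub_right, polar_smul_right, e₂e, e₂f, e₂e₁, e₂f₁, hv, smul_eq_mul]
    ring
  refine ⟨e, f, e₁, f₁, e₂, v' + (-Q v') • e₂, ⟨h, h₁, ⟨he₂, ?_, ?_⟩, a1, a2, a3, a4, p0, ?_, p1,
    ?_, p2, ?_, p3, ?_⟩⟩
  · rw [Q_add, QuadraticMap.map_smul, he₂, polar_smul_right, polar_comm Q v' e₂, q4]; simp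
  · rw [polar_add_right, polar_smul_right, q4, polar_self_of_sing he₂]; simp
  · rw [polar_add_right, polar_smul_right, q0, p0]; simp
  · rw [polar_add_right, polar_smul_right, q1, p1]; simp
  · rw [polar_add_right, polar_smul_right, q2, p2]; simp
  · rw [polar_add_right, polar_smul_right, q3, p3]; simp

theorem Three.li {e f e₁ f₁ e₂ f₂ : V} (t : Three Q e f e₁ f₁ e₂ f₂) :
    LinearIndependent F ![e, f, e₁, f₁, e₂, f₂] := by
  have e₁e : polar Q e₁ e = 0 := by rw [polar_comm]; exact t.a1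
  have e₁f : polar Q e₁ f = 0 := by rw [polar_comm]; exact t.a3
  have f₁e : polar Q f₁ e = 0 := by rw [polar_comm]; exact t.a2
  have f₁f : polar Q f₁ f = 0 := by rw [polar_comm]; exact t.a4
  have e₂e : polar Q e₂ e = 0 := by rw [polar_comm]; exact t.b1
  have e₂f : polar Q e₂ f = 0 := by rw [polar_comm]; exact t.b3
  have f₂e : polar Q f₂ e = 0 := by rw [polar_comm]; exact t.b2
  have f₂f : polar Q f₂ f = 0 := by rw [polar_comm]; exact t.b4
  have e₂e₁ : polar Q e₂ e₁ = 0 := by rw [polar_comm]; exact t.c1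
  have e₂f₁ : polar Q e₂ f₁ = 0 := by rw [polar_comm]; exact t.c3
  have f₂e₁ : polar Q f₂ e₁ = 0 := by rw [polar_comm]; exact t.c2
  have f₂f₁ : polar Q f₂ f₁ = 0 := by rw [polar_comm]; exact t.c4
  rw [Fintype.linearIndependent_iff]
  intro g hg
  rw [Fin.sum_univ_six] at hg
  have hg' : g 0 • e + g 1 • f + g 2 • e₁ + g 3 • f₁ + g 4 • e₂ + g 5 • f₂ = 0 := hg
  have key : ∀ x : V, polar Q x (g 0 • e + g 1 • f + g 2 • e₁ + g 3 • f₁ + g 4 • e₂ + g 5 • f₂) =
      0 := fun x => by rw [hg']; exact polar_zero_right Q x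
  have k0 := key f
  have k1 := key e
  have k2 := key f₁
  have k3 := key e₁
  have k4 := key f₂
  have k5 := key e₂
  simp only [polar_add_right, polar_smul_right, t.h.pair', t.h.polar_right, t.a3, t.a4, t.b3, t.b4,
    smul_eq_mul, mul_one, mul_zero, add_zero] at k0
  simp only [polar_add_right, polar_smul_right, t.h.pair, t.h.polar_left, t.a1, t.a2, t.b1, t.b2,
    smul_eq_mul, mul_one, mul_zero, add_zero, zero_add] at k1
  simp only [polar_add_right, polar_smul_right, t.h₁.pair', t.h₁.polar_right, f₁e, f₁f, t.c3, t.c4,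
    smul_eq_mul, mul_one, mul_zero, add_zero, zero_add] at k2
  simp only [polar_add_right, polar_smul_right, t.h₁.pair, t.h₁.polar_left, e₁e, e₁f, t.c1, t.c2,
    smul_eq_mul, mul_one, mul_zero, add_zero, zero_add] at k3
  simp only [polar_add_right, polar_smul_right, t.h₂.pair', t.h₂.polar_right, f₂e, f₂f, f₂e₁,
    f₂f₁, smul_eq_mul, mul_one, mul_zero, add_zero, zero_add] at k4
  simp only [polar_add_right, polar_smul_right, t.h₂.pair, t.h₂.polar_left, e₂e, e₂f, e₂e₁,
    e₂f₁, smul_eq_mul, mul_one, mul_zero, add_zero, zero_add] at k5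
  intro i
  fin_cases i
  · exact k0
  · exact k1
  · exact k2
  · exact k3
  · exact k4
  · exact k5

theorem Three.eq_zero {e f e₁ f₁ e₂ f₂ : V} (t : Three Q e f e₁ f₁ e₂ f₂) {w : V}
    (hw : w ∈ Submodule.span F (Set.range ![e, f, e₁, f₁, e₂, f₂])) (h0 : polar Q e w = 0)
    (h1 : polar Q f w = 0) (h2 : polar Q e₁ w = 0) (h3 : polar Q f₁ w = 0)
    (h4 : polar Q e₂ w = 0) (h5 : polar Q f₂ w = 0) : w = 0 := by
  have e₁e : polar Q e₁ e = 0 := by rw [polar_comm]; exact t.a1
  have e₁f : polar Q e₁ f = 0 := by rw [polar_comm]; exact t.a3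
  have f₁e : polar Q f₁ e = 0 := by rw [polar_comm]; exact t.a2
  have f₁f : polar Q f₁ f = 0 := by rw [polar_comm]; exact t.a4
  have e₂e : polar Q e₂ e = 0 := by rw [polar_comm]; exact t.b1
  have e₂f : polar Q e₂ f = 0 := by rw [polar_comm]; exact t.b3
  have f₂e : polar Q f₂ e = 0 := by rw [polar_comm]; exact t.b2
  have f₂f : polar Q f₂ f = 0 := by rw [polar_comm]; exact t.b4
  have e₂e₁ : polar Q e₂ e₁ = 0 := by rw [polar_comm]; exact t.c1
  have e₂f₁ : polar Q e₂ f₁ = 0 := by rw [polar_comm]; exact t.c3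
  have f₂e₁ : polar Q f₂ e₁ = 0 := by rw [polar_comm]; exact t.c2
  have f₂f₁ : polar Q f₂ f₁ = 0 := by rw [polar_comm]; exact t.c4
  rw [Submodule.mem_span_range_iff_exists_fun] at hw
  obtain ⟨g, hg⟩ := hw
  rw [Fin.sum_univ_six] at hg
  have hg' : g 0 • e + g 1 • f + g 2 • e₁ + g 3 • f₁ + g 4 • e₂ + g 5 • f₂ = w := hg
  rw [← hg'] at h0 h1 h2 h3 h4 h5
  simp only [polar_add_right, polar_smul_right, t.h.pair', t.h.polar_right, t.a3, t.a4, t.b3, t.b4,
    smul_eq_mul, mul_one, mul_zero, add_zero] at h1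
  simp only [polar_add_right, polar_smul_right, t.h.pair, t.h.polar_left, t.a1, t.a2, t.b1, t.b2,
    smul_eq_mul, mul_one, mul_zero, add_zero, zero_add] at h0
  simp only [polar_add_right, polar_smul_right, t.h₁.pair', t.h₁.polar_right, f₁e, f₁f, t.c3, t.c4,
    smul_eq_mul, mul_one, mul_zero, add_zero, zero_add] at h3
  simp only [polar_add_right, polar_smul_right, t.h₁.pair, t.h₁.polar_left, e₁e, e₁f, t.c1, t.c2,
    smul_eq_mul, mul_one, mul_zero, add_zero, zero_add] at h2
  simp only [polar_add_right, polar_smul_right, t.h₂.pair', t.h₂.polar_right, f₂e, f₂f, f₂e₁,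
    f₂f₁, smul_eq_mul, mul_one, mul_zero, add_zero, zero_add] at h5
  simp only [polar_add_right, polar_smul_right, t.h₂.pair, t.h₂.polar_left, e₂e, e₂f, e₂e₁,
    e₂f₁, smul_eq_mul, mul_one, mul_zero, add_zero, zero_add] at h4
  rw [← hg', h0, h1, h2, h3, h4, h5]
  simp

/-- The element commuting with a Siegel transformation and without fixed points on `e^⊥ / e`. -/
theorem exists_z (hG : Good Q) (hF : ∀ c : F, c = 0 ∨ c = 1) {m : ℕ} (hd : Module.finrank F V = 2 * m)
    (hm : 4 ≤ m) (hM : Minus Q) {e f e₁ f₁ e₂ f₂ : V} (t : Three Q e f e₁ f₁ e₂ f₂) :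
    ∃ z ∈ E Q, z e = e ∧ (∀ v, polar Q e v = 0 → z v - v ∈ Submodule.span F {e} →
      v ∈ Submodule.span F {e}) ∧ z * sg Q e₁ e₂ = sg Q e₁ e₂ * z := by
  classical
  have hQ := hG.nondeg
  have hfd : FiniteDimensional F V := Module.finite_of_finrank_pos (by omega)
  have htwo : (2 : F) = 0 := by
    rcases hF (-1) with h1 | h1
    · exact absurd (neg_eq_zero.1 h1) one_ne_zero
    · linear_combination -h1
  have hneg : ∀ u : V, -u = u := by
    intro u
    have : (-(1 : F)) = 1 := by linear_combination (-(1 : F)) * htwo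
    rw [← neg_one_smul F u, this, one_smul]
  have hdbl : ∀ u : V, u + u = 0 := by
    intro u
    have := hneg u
    nth_rewrite 1 [← this]
    exact neg_add_cancel u
  have h1' : ∀ c : F, c ≠ 0 → c = 1 := fun c hc => (hF c).resolve_left hc
  have e₁e : polar Q e₁ e = 0 := by rw [polar_comm]; exact t.a1
  have e₁f : polar Q e₁ f = 0 := by rw [polar_comm]; exact t.a3
  have f₁e : polar Q f₁ e = 0 := by rw [polar_comm]; exact t.a2
  have f₁f : polar Q f₁ f = 0 := by rw [polar_comm]; exact t.a4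
  have e₂e : polar Q e₂ e = 0 := by rw [polar_comm]; exact t.b1
  have e₂f : polar Q e₂ f = 0 := by rw [polar_comm]; exact t.b3
  have f₂e : polar Q f₂ e = 0 := by rw [polar_comm]; exact t.b2
  have f₂f : polar Q f₂ f = 0 := by rw [polar_comm]; exact t.b4
  have e₂e₁ : polar Q e₂ e₁ = 0 := by rw [polar_comm]; exact t.c1
  have e₂f₁ : polar Q e₂ f₁ = 0 := by rw [polar_comm]; exact t.c3
  have f₂e₁ : polar Q f₂ e₁ = 0 := by rw [polar_comm]; exact t.c2
  have f₂f₁ : polar Q f₂ f₁ = 0 := by rw [polar_comm]; exact t.c4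
  set X := Submodule.span F (Set.range ![e, f, e₁, f₁, e₂, f₂]) with hX
  set U := perp Q X with hU
  have hXd : Module.finrank F X = 6 := by
    rw [hX, finrank_span_eq_card t.li, Fintype.card_fin]
  have hUd : Module.finrank F U = 2 * m - 6 := by
    rw [hU, finrank_perp hQ, hXd, hd]
  have memU : ∀ v, v ∈ U ↔ polar Q e v = 0 ∧ polar Q f v = 0 ∧ polar Q e₁ v = 0 ∧
      polar Q f₁ v = 0 ∧ polar Q e₂ v = 0 ∧ polar Q f₂ v = 0 := by
    intro v
    rw [hU, perp_span]
    constructor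
    · intro h
      exact ⟨h _ ⟨0, rfl⟩, h _ ⟨1, rfl⟩, h _ ⟨2, rfl⟩, h _ ⟨3, rfl⟩, h _ ⟨4, rfl⟩, h _ ⟨5, rfl⟩⟩
    · rintro ⟨h0, h1, h2, h3, h4, h5⟩ _ ⟨i, rfl⟩
      fin_cases i
      · exact h0
      · exact h1
      · exact h2
      · exact h3
      · exact h4
      · exact h5
  -- `U` is spanned by nonsingular vectors
  set S : Set V := {v | v ∈ U ∧ Q v ≠ 0} with hS
  have hspan : Submodule.span F S = U := by
    apply le_antisymm
    · rw [Submodule.span_le]
      rintro v ⟨hv, -⟩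
      exact hv
    · intro u hu
      by_cases hQu : Q u = 0
      swap
      · exact Submodule.subset_span ⟨hu, hQu⟩
      -- a nonsingular vector of `U` orthogonal to `u`
      obtain ⟨v, hv, huv, hQv⟩ : ∃ v ∈ U, polar Q u v = 0 ∧ Q v ≠ 0 := by
        by_contra hcon
        push Not at hcon
        set R := U ⊓ perp Q (Submodule.span F {u}) with hR
        have hRts : ∀ x ∈ R, Q x = 0 := by
          intro x hx
          exact hcon x hx.1 (hx.2 u (Submodule.mem_span_singleton_self u))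
        have hRd : 2 * m - 7 ≤ Module.finrank F R := by
          have h1 : R = perp Q (X ⊔ Submodule.span F {u}) := by
            rw [hR, hU]
            exact (Cfsg.Agent.H75.OrthIdx.perp_sup _ _).symm
          have h2 := Submodule.finrank_add_le_finrank_add_finrank X (Submodule.span F {u})
          have h3 : Module.finrank F (Submodule.span F {u}) ≤ 1 := by
            have := finrank_span_le_card (R := F) ({u} : Set V)
            simpa using this
          rw [h1, finrank_perp hQ, hd]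
          omega
        have hRU : ∀ r ∈ R, polar Q e r = 0 ∧ polar Q f r = 0 ∧ polar Q e₁ r = 0 ∧
            polar Q f₁ r = 0 ∧ polar Q e₂ r = 0 ∧ polar Q f₂ r = 0 := fun r hr =>
          (memU r).1 hr.1
        obtain ⟨s1, d1⟩ := ts_step (y := f) hRts t.h.left
          (fun r hr => by rw [polar_comm]; exact (hRU r hr).1)
          (fun r hr => by rw [polar_comm]; exact (hRU r hr).2.1)
          (by rw [t.h.pair]; exact one_ne_zero)
        set R1 := R ⊔ Submodule.span F {e} with hR1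
        have hR1p : ∀ r ∈ R1, polar Q r e₁ = 0 ∧ polar Q r f₁ = 0 ∧ polar Q r e₂ = 0 ∧
            polar Q r f₂ = 0 := by
          intro r hr
          obtain ⟨x, hx, y, hy, rfl⟩ := Submodule.mem_sup.1 hr
          obtain ⟨c, rfl⟩ := Submodule.mem_span_singleton.1 hy
          obtain ⟨-, -, k1, k2, k3, k4⟩ := hRU x hx
          refine ⟨?_, ?_, ?_, ?_⟩
          · rw [polar_add_left, polar_smul_left, polar_comm Q x, k1, t.a1]; simp
          · rw [polar_add_left, polar_smul_left, polar_comm Q x, k2, t.a2]; simp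
          · rw [polar_add_left, polar_smul_left, polar_comm Q x, k3, t.b1]; simp
          · rw [polar_add_left, polar_smul_left, polar_comm Q x, k4, t.b2]; simp
        obtain ⟨s2, d2⟩ := ts_step (y := f₁) s1 t.h₁.left (fun r hr => (hR1p r hr).1)
          (fun r hr => (hR1p r hr).2.1) (by rw [t.h₁.pair]; exact one_ne_zero)
        set R2 := R1 ⊔ Submodule.span F {e₁} with hR2
        have hR2p : ∀ r ∈ R2, polar Q r e₂ = 0 ∧ polar Q r f₂ = 0 := by
          intro r hr
          obtain ⟨x, hx, y, hy, rfl⟩ := Submodule.mem_sup.1 hr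
          obtain ⟨c, rfl⟩ := Submodule.mem_span_singleton.1 hy
          obtain ⟨-, -, k3, k4⟩ := hR1p x hx
          refine ⟨?_, ?_⟩
          · rw [polar_add_left, polar_smul_left, k3, t.c1]; simp
          · rw [polar_add_left, polar_smul_left, k4, t.c2]; simp
        obtain ⟨s3, d3⟩ := ts_step (y := f₂) s2 t.h₂.left (fun r hr => (hR2p r hr).1)
          (fun r hr => (hR2p r hr).2) (by rw [t.h₂.pair]; exact one_ne_zero)
        have h5 := hM _ s3
        omega
      have h1 : u + v ∈ Submodule.span F S := Submodule.subset_span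
        ⟨U.add_mem hu hv, by rw [Q_add, hQu, huv, zero_add, add_zero]; exact hQv⟩
      have h2 : v ∈ Submodule.span F S := Submodule.subset_span ⟨hv, hQv⟩
      have h3 := Submodule.sub_mem _ h1 h2
      rwa [add_sub_cancel_right] at h3
  -- a basis
  obtain ⟨B, hBS, hBspan, hBli⟩ := exists_linearIndependent F S
  obtain ⟨k, ⟨eqv⟩⟩ := Finite.exists_equiv_fin B
  set b : Fin k → V := fun i => (eqv.symm i : V) with hb
  have hbli : LinearIndependent F b := hBli.comp _ eqv.symm.injective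
  have hbrange : Set.range b = B := by
    ext v
    constructor
    · rintro ⟨i, rfl⟩
      exact (eqv.symm i).2
    · intro hv
      exact ⟨eqv ⟨v, hv⟩, by rw [hb]; simp⟩
  have hbspan : Submodule.span F (Set.range b) = U := by rw [hbrange, hBspan, hspan]
  have hk : k = 2 * m - 6 := by
    have h1 := finrank_span_eq_card hbli
    rw [hbspan, hUd, Fintype.card_fin] at h1
    exact h1.symm
  have hbQ : ∀ i, Q (b i) ≠ 0 := fun i => (hBS (eqv.symm i).2).2
  have hbU : ∀ i, b i ∈ U := fun i => (hBS (eqv.symm i).2).1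
  have ha0 : Q (e + f) ≠ 0 := by
    rw [Q_add, t.h.left, t.h.right, t.h.pair]; simp
  obtain ⟨z2, hz2O, hz2E, g1, g2, g3⟩ := exists_prod hG hF ha0 k b hbli hbQ
  have hz2 : z2 ∈ E Q := by
    have h1 : refl Q (e + f) ha0 ^ k = 1 := by
      obtain ⟨j, hj⟩ : ∃ j, k = 2 * j := ⟨m - 3, by omega⟩
      rw [hj, pow_mul, pow_two, refl_mul_self, one_pow]
    rwa [h1, mul_one] at hz2E
  have hfix : ∀ x, (∀ i, polar Q (b i) x = 0) → z2 x = x := g1
  have hperpU : ∀ x, (∀ u ∈ U, polar Q u x = 0) → z2 x = x := fun x hx =>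
    hfix x fun i => hx _ (hbU i)
  have z2e : z2 e = e := hperpU e fun u hu => by rw [polar_comm]; exact ((memU u).1 hu).1
  have z2e₁ : z2 e₁ = e₁ := hperpU _ fun u hu => by rw [polar_comm]; exact ((memU u).1 hu).2.2.1
  have z2f₁ : z2 f₁ = f₁ := hperpU _ fun u hu => by
    rw [polar_comm]; exact ((memU u).1 hu).2.2.2.1
  have z2e₂ : z2 e₂ = e₂ := hperpU _ fun u hu => by
    rw [polar_comm]; exact ((memU u).1 hu).2.2.2.2.1
  have z2f₂ : z2 f₂ = f₂ := hperpU _ fun u hu => by
    rw [polar_comm]; exact ((memU u).1 hu).2.2.2.2.2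
  -- `z1`
  set z1 := sg Q e₁ f₂ * sg Q e₂ f₁ with hz1
  have hz1E : z1 ∈ E Q := (E Q).mul_mem (sg_mem_E _ _) (sg_mem_E _ _)
  have z1perp : ∀ x, polar Q e₁ x = 0 → polar Q f₁ x = 0 → polar Q e₂ x = 0 →
      polar Q f₂ x = 0 → z1 x = x := by
    intro x k1 k2 k3 k4
    show sg Q e₁ f₂ (sg Q e₂ f₁ x) = x
    rw [sg_fix k3 k2, sg_fix k1 k4]
  have z1e : z1 e = e := z1perp e e₁e f₁e e₂e f₂e
  have sg1 : ∀ x, sg Q e₁ f₂ x = x + polar Q e₁ x • f₂ - polar Q f₂ x • e₁ := by
    intro x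
    rw [sg_apply t.h₁.left t.c2, t.h₂.right, zero_mul, zero_smul, sub_zero]
  have sg2 : ∀ x, sg Q e₂ f₁ x = x + polar Q e₂ x • f₁ - polar Q f₁ x • e₂ := by
    intro x
    rw [sg_apply t.h₂.left e₂f₁, t.h₁.right, zero_mul, zero_smul, sub_zero]
  have z1e₁ : z1 e₁ = e₂ := by
    show sg Q e₁ f₂ (sg Q e₂ f₁ e₁) = e₂
    have k1 : sg Q e₂ f₁ e₁ = e₁ - e₂ := by
      rw [sg2, e₂e₁, t.h₁.pair', zero_smul, add_zero, one_smul]
    rw [k1, sg1, polar_sub_right, polar_sub_right, t.h₁.polar_left, t.c1, f₂e₁, t.h₂.pair']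
    have k2 : e₁ - e₂ + ((0 : F) - 0) • f₂ - ((0 : F) - 1) • e₁ = (e₁ + e₁) - e₂ := by module
    rw [k2, hdbl, zero_sub, hneg]
  have z1e₂ : z1 e₂ = e₁ + e₂ := by
    show sg Q e₁ f₂ (sg Q e₂ f₁ e₂) = _
    have k1 : sg Q e₂ f₁ e₂ = e₂ := by
      rw [sg2, t.h₂.polar_left, t.c3, zero_smul, zero_smul, add_zero, sub_zero]
    rw [k1, sg1, t.c1, t.h₂.pair', zero_smul, add_zero, one_smul]
    rw [sub_eq_add_neg, hneg, add_comm]
  have z1f₁ : z1 f₁ = f₁ + f₂ := by
    show sg Q e₁ f₂ (sg Q e₂ f₁ f₁) = _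
    have k1 : sg Q e₂ f₁ f₁ = f₁ := by
      rw [sg2, e₂f₁, t.h₁.polar_right, zero_smul, zero_smul, add_zero, sub_zero]
    rw [k1, sg1, t.h₁.pair, f₂f₁, zero_smul, sub_zero, one_smul]
  have z1f₂ : z1 f₂ = f₁ := by
    show sg Q e₁ f₂ (sg Q e₂ f₁ f₂) = _
    have k1 : sg Q e₂ f₁ f₂ = f₂ + f₁ := by
      rw [sg2, t.h₂.pair, t.c4, zero_smul, sub_zero, one_smul]
    rw [k1, sg1, polar_add_right, polar_add_right, t.c2, t.h₁.pair, t.h₂.polar_right, f₂f₁]
    have k2 : f₂ + f₁ + ((0 : F) + 1) • f₂ - ((0 : F) + 0) • e₁ = (f₂ + f₂) + f₁ := by module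
    rw [k2, hdbl, zero_add]
  have hzO : z1 * z2 ∈ O Q := (O Q).mul_mem (E_le_O hz1E) hz2O
  refine ⟨z1 * z2, (E Q).mul_mem hz1E hz2, ?_, ?_, ?_⟩
  · show z1 (z2 e) = e
    rw [z2e, z1e]
  · intro v hev hv
    -- replace `v` by its projection
    set w := v + (-polar Q f v) • e with hw
    have hew : polar Q e w = 0 := by
      rw [hw, polar_add_right, polar_smul_right, hev, t.h.polar_left, smul_zero, add_zero]
    have hfw : polar Q f w = 0 := by
      rw [hw, polar_add_right, polar_smul_right, t.h.pair', smul_eq_mul, mul_one, add_neg_cancel]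
    have hze : (z1 * z2) e = e := by
      show z1 (z2 e) = e
      rw [z2e, z1e]
    have z2f : z2 f = f := hperpU _ fun u hu => by
      rw [polar_comm]; exact ((memU u).1 hu).2.1
    have z1f : z1 f = f := z1perp f e₁f f₁f e₂f f₂f
    have hzf : (z1 * z2) f = f := by
      show z1 (z2 f) = f
      rw [z2f, z1f]
    have hzw : (z1 * z2) w = w := by
      have k1 : (z1 * z2) w - w ∈ Submodule.span F {e} := by
        have : (z1 * z2) w - w = (z1 * z2) v - v := by
          rw [hw, map_add, map_smul, hze]; abel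
        rw [this]; exact hv
      obtain ⟨c, hc⟩ := Submodule.mem_span_singleton.1 k1
      have k2 : polar Q f ((z1 * z2) w - w) = 0 := by
        rw [polar_sub_right, hfw, sub_zero]
        have := polar_map hzO f w
        rw [hzf, hfw] at this
        exact this
      rw [← hc, polar_smul_right, t.h.pair', smul_eq_mul, mul_one] at k2
      rw [k2, zero_smul] at hc
      exact sub_eq_zero.1 hc.symm
    have key : ∀ x, polar Q ((z1 * z2) x) w = polar Q x w := by
      intro x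
      have := polar_map hzO x w
      rwa [hzw] at this
    have k1 := key e₁
    have k2 := key e₂
    have k3 := key f₁
    have k4 := key f₂
    have j1 : (z1 * z2) e₁ = e₂ := by
      show z1 (z2 e₁) = _
      rw [z2e₁, z1e₁]
    have j2 : (z1 * z2) e₂ = e₁ + e₂ := by
      show z1 (z2 e₂) = _
      rw [z2e₂, z1e₂]
    have j3 : (z1 * z2) f₁ = f₁ + f₂ := by
      show z1 (z2 f₁) = _
      rw [z2f₁, z1f₁]
    have j4 : (z1 * z2) f₂ = f₁ := by
      show z1 (z2 f₂) = _
      rw [z2f₂, z1f₂]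
    rw [j1] at k1
    rw [j2, polar_add_left] at k2
    rw [j3, polar_add_left] at k3
    rw [j4] at k4
    have i1 : polar Q e₁ w = 0 := by linear_combination k2
    have i2 : polar Q e₂ w = 0 := by rw [k1]; exact i1
    have i3 : polar Q f₂ w = 0 := by linear_combination k3
    have i4 : polar Q f₁ w = 0 := by rw [k4]; exact i3
    have hwU : w ∈ U := (memU w).2 ⟨hew, hfw, i1, i4, i2, i3⟩
    -- `z2 w = w`
    have hz2w : z2 w ∈ U := by
      have := U.add_mem (hbspan ▸ g3 w : z2 w - w ∈ U) hwU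
      rwa [sub_add_cancel] at this
    have hz2w' : z2 w = w := by
      obtain ⟨-, -, l1, l2, l3, l4⟩ := (memU _).1 hz2w
      have l5 := z1perp (z2 w) l1 l2 l3 l4
      rw [← l5]; exact hzw
    have hwb := g2 w hz2w'
    have hwU' : w ∈ perp Q U := by
      rw [← hbspan, perp_span]
      rintro _ ⟨i, rfl⟩
      exact hwb i
    have hw0 : w = 0 := by
      rw [hU, perp_perp hQ] at hwU'
      exact t.eq_zero hwU' hew hfw i1 i4 i2 i3
    rw [Submodule.mem_span_singleton]
    refine ⟨polar Q f v, ?_⟩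
    have k5 : v = w + polar Q f v • e := by rw [hw]; module
    rw [k5, hw0, zero_add, polar_smul_right, t.h.pair', smul_eq_mul, mul_one]
  · have hz2c : z2 * sg Q e₁ e₂ * z2⁻¹ = sg Q e₁ e₂ := by
      rw [sg_conj hz2O, z2e₁, z2e₂]
    have hz1c : z1 * sg Q e₁ e₂ * z1⁻¹ = sg Q e₁ e₂ := by
      rw [sg_conj (E_le_O hz1E), z1e₁, z1e₂]
      have k1 : sg Q e₂ (e₁ + e₂) = sg Q e₂ e₁ := by
        have := sg_add_smul (Q := Q) t.h₂.left e₁ (1 : F)
        rwa [one_smul] at this
      rw [k1, sg_swap t.h₂.left t.h₁.left e₂e₁, hneg]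
    calc z1 * z2 * sg Q e₁ e₂ = z1 * (z2 * sg Q e₁ e₂ * z2⁻¹) * z2 := by group
      _ = z1 * sg Q e₁ e₂ * z2 := by rw [hz2c]
      _ = (z1 * sg Q e₁ e₂ * z1⁻¹) * (z1 * z2) := by group
      _ = sg Q e₁ e₂ * (z1 * z2) := by rw [hz1c]

/-- **Nontrivial Siegel transformations, two elements, `m ≥ 4`.** -/
theorem exists_PP_two (hG : Good Q) (hF : ∀ c : F, c = 0 ∨ c = 1) {m : ℕ}
    (hd : Module.finrank F V = 2 * m) (hm : 4 ≤ m) (hM : Minus Q) {H : Subgroup (V ≃ₗ[F] V)}
    (hn : H.relIndex (E Q) < 2 * Nat.card F ^ (Module.finrank F V - 2)) :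
    ∃ e, e ∈ PP Q H := by
  have hfd : FiniteDimensional F V := Module.finite_of_finrank_pos (by omega)
  obtain ⟨e, f, e₁, f₁, e₂, f₂, t⟩ := exists_three hG (by omega)
  by_cases htriv : ∀ v ∈ Bs Q H e, v ∈ Submodule.span F {e}
  · obtain ⟨z, hz, hze, hfpf, hcomm⟩ := exists_z hG hF hd hm hM t
    have e₁e : polar Q e₁ e = 0 := by rw [polar_comm]; exact t.a1
    have e₂e : polar Q e₂ e = 0 := by rw [polar_comm]; exact t.b1
    have hyP : sg Q e₁ e₂ ∈ Pst Q e := ⟨sg_mem_E _ _, 1, one_ne_zero, by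
      rw [one_smul]; exact sg_fix e₁e e₂e⟩
    obtain ⟨x, hx, hxH⟩ := step1_comm hG hn t.h.left_ne t.h.left htriv hz one_ne_zero
      (by rw [one_smul]; exact hze) (by
        intro v hv hv'
        rw [one_smul] at hv'
        exact hfpf v hv hv') hyP hcomm
    have hxO : x ∈ O Q := E_le_O (rad_le_Pst t.h.left hx).1
    rw [sg_conj hxO] at hxH
    refine ⟨x e₁, (map_ne_zero_iff x x.injective).2 t.h₁.left_ne, ?_, x e₂, ⟨?_, hxH⟩, ?_⟩
    · rw [mem_O.1 hxO]; exact t.h₁.left
    · rw [polar_map hxO]; exact t.c1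
    · intro hmem
      obtain ⟨c, hc⟩ := Submodule.mem_span_singleton.1 hmem
      rw [← map_smul] at hc
      have h1 := x.injective hc
      have h2 := congrArg (polar Q f₂) h1
      rw [polar_smul_right, polar_comm Q f₂ e₁, t.c2, t.h₂.pair', smul_zero] at h2
      exact zero_ne_one h2
  · push Not at htriv
    exact ⟨e, t.h.left_ne, t.h.left, htriv⟩

end Cfsg.Agent.H76.ReflProd
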