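import Cfsg.Agent.H76.Lower
import Cfsg.Agent.H76.ReflProd

/-!
# The minimal index in the minus type, `m ≥ 4`
-/

set_option autoImplicit false
set_option linter.unusedSectionVars false

namespace Cfsg.Agent.H76.MainFour

open QuadraticMap Cfsg.Agent.LieClassical.OrthCore Cfsg.Agent.LieClassical.OrthTrans
open Cfsg.Agent.LieClassical.OrthForms
open Cfsg.Agent.H76.Num Cfsg.Agent.H76.Lower Cfsg.Agent.H76.ReflProd
open Cfsg.Agent.H75.OrthIdx (PP StT relIndex_StT_sing lower_transfer exists_transfer
  exists_PP_four exists_PP_odd)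

variable {F V : Type*} [Field F] [AddCommGroup V] [Module F V] {Q : QuadraticForm F V}
variable [Finite F] [Finite V]

theorem lt_of_bd {q m n : ℕ} (hq : 2 ≤ q) (hm : 3 ≤ m) (h : (q - 1) * n < bd q m) :
    n < 2 * q ^ (2 * m - 2) := by
  obtain ⟨r, rfl⟩ : ∃ r, q = r + 2 := ⟨q - 2, by omega⟩
  obtain ⟨k, rfl⟩ : ∃ k, m = k + 3 := ⟨m - 3, by omega⟩
  have e1 : r + 2 - 1 = r + 1 := by omega
  have e2 : 2 * (k + 3) - 2 = 2 * k + 4 := by omega
  have e3 : k + 3 - 1 = k + 2 := by omega
  rw [bd, e3, e1] at h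
  rw [e2]
  have h1 : ((r + 2) ^ (k + 3) + 1) * ((r + 2) ^ (k + 2) - 1) ≤
      (r + 2) * (r + 2) ^ (2 * k + 4) := by
    obtain ⟨y, hy⟩ : ∃ y, (r + 2) ^ (k + 2) = y + 1 :=
      ⟨(r + 2) ^ (k + 2) - 1, by have : 0 < (r + 2) ^ (k + 2) := by positivity
                                 omega⟩
    have e4 : (r + 2) ^ (k + 3) = (r + 2) * (y + 1) := by rw [← hy]; ring
    have e5 : (r + 2) ^ (2 * k + 4) = (y + 1) * (y + 1) := by rw [← hy]; ring
    rw [e4, e5, hy, Nat.add_sub_cancel]
    nlinarith
  have h2 : (r + 2) * (r + 2) ^ (2 * k + 4) ≤ (r + 1) * (2 * (r + 2) ^ (2 * k + 4)) := by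
    have : r + 2 ≤ (r + 1) * 2 := by omega
    calc (r + 2) * (r + 2) ^ (2 * k + 4) ≤ ((r + 1) * 2) * (r + 2) ^ (2 * k + 4) :=
          Nat.mul_le_mul_right _ this
      _ = _ := by ring
  exact lt_of_mul_lt_mul_left (h.trans_le (h1.trans h2)) (Nat.zero_le _)

theorem exists_PP (hG : Good Q) {m : ℕ} (hC : MinusCount Q m) (hm : 4 ≤ m)
    {H : Subgroup (V ≃ₗ[F] V)} (hn : (Nat.card F - 1) * H.relIndex (E Q) < bd (Nat.card F) m) :
    ∃ e, e ∈ PP Q H := by
  have hfd : FiniteDimensional F V := Module.finite_of_finrank_pos (by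
    rw [hC.finrank]; omega)
  have hq := two_le_card (F := F)
  have hn' := lt_of_bd hq hC.three hn
  rw [← hC.finrank] at hn'
  rcases Nat.lt_or_ge (Nat.card F) 4 with h4 | h4
  · by_cases h2 : (2 : F) = 0
    · have hF : ∀ c : F, c = 0 ∨ c = 1 := by
        have h3 : Nat.card F = 2 := by
          have := Fintype.ofFinite F
          have hev : Even (Nat.card F) := by
            rw [Nat.card_eq_fintype_card]
            by_contra hodd
            rw [Nat.not_even_iff_odd] at hodd
            obtain ⟨j, hj⟩ := hodd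
            have h5 := Nat.cast_card_eq_zero F
            rw [hj] at h5
            push_cast at h5
            rw [h2, zero_mul, zero_add] at h5
            exact one_ne_zero h5
          obtain ⟨j, hj⟩ := hev
          omega
        intro c
        by_contra hcon
        push Not at hcon
        have h5 : ({0, 1, c} : Set F).ncard ≤ Nat.card F := by
          rw [← Set.ncard_univ]
          exact Set.ncard_le_ncard (Set.subset_univ _) (Set.toFinite _)
        rw [Set.ncard_insert_of_notMem (by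
          simp only [Set.mem_insert_iff, Set.mem_singleton_iff]
          rintro (h6 | h6)
          · exact zero_ne_one h6
          · exact hcon.1 h6.symm), Set.ncard_pair (fun h6 => hcon.2 h6.symm)] at h5
        omega
      exact exists_PP_two hG hF hC.finrank hm hC.minus hn'
    · exact exists_PP_odd hG (by rw [hC.finrank]; omega) h2 hn'
  · exact exists_PP_four hG (by rw [hC.finrank]; omega) h4 hn'

/-- **The lower bound, `m ≥ 4`.** -/
theorem lower (hG : Good Q) {m : ℕ} (hC : MinusCount Q m) (hm : 4 ≤ m)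
    {H : Subgroup (V ≃ₗ[F] V)} (hH : H ≤ E Q) (hne : ¬ E Q ≤ H) :
    bd (Nat.card F) m ≤ (Nat.card F - 1) * H.relIndex (E Q) :=
  lower_of_PP hG hC hm hH hne fun h => exists_PP hG hC hm h

theorem exists_index (hG : Good Q) {m : ℕ} (hC : MinusCount Q m) :
    ∃ T : Submodule F V, (StT Q T).relIndex (E Q) * (Nat.card F - 1) = bd (Nat.card F) m := by
  have hfd : FiniteDimensional F V := Module.finite_of_finrank_pos (by
    rw [hC.finrank]; have := hC.three; omega)
  obtain ⟨e, f, h⟩ := hG.exists_hyp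
  exact ⟨_, (relIndex_StT_sing hG h.left_ne h.left).trans (MinusCount.ncard_sing hC)⟩

end Cfsg.Agent.H76.MainFour
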