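import Mathlib

/-!
# Perfect groups act trivially on sets of at most four elements

(The solvability of `Perm Y`, `|Y| ≤ 4`, as in `H247/PermQS.lean`.)
-/

set_option autoImplicit false
set_option linter.style.haveILetI false

namespace Cfsg.Agent.H76.PermFour

open Equiv Equiv.Perm Subgroup

theorem solvable_perm_four : Group.IsSolvable (Perm (Fin 4)) := by
  have h4 : Nat.card (Fin 4) = 4 := by simp
  haveI hA : Group.IsSolvable (alternatingGroup (Fin 4)) := by
    haveI := alternatingGroup.normal_kleinFour h4
    rw [Group.isSolvable_iff_subgroup_quotient (alternatingGroup.kleinFour (Fin 4))]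
    constructor
    · haveI := alternatingGroup.kleinFour_isKleinFour h4
      haveI := IsKleinFour.isMulCommutative (G := alternatingGroup.kleinFour (Fin 4))
      exact Group.isSolvable_of_comm fun a b => mul_comm' a b
    · haveI := (Subgroup.Normal.quotient_commutative_iff_commutator_le
        (N := alternatingGroup.kleinFour (Fin 4))).2 (alternatingGroup.kleinFour_eq_commutator h4).ge
      exact Group.isSolvable_of_comm fun a b => mul_comm' a b
  exact Group.isSolvable_of_ker_le_range (alternatingGroup (Fin 4)).subtype (sign (α := Fin 4))
    (by rw [Subgroup.range_subtype, alternatingGroup_eq_sign_ker])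

theorem solvable_perm_of_card_le {Y : Type*} [Finite Y] (h : Nat.card Y ≤ 4) :
    Group.IsSolvable (Perm Y) := by
  classical
  haveI := Fintype.ofFinite Y
  have h1 : Nonempty (Y ↪ Fin 4) := by
    apply Function.Embedding.nonempty_of_card_le
    rw [← Nat.card_eq_fintype_card]; simpa using h
  obtain ⟨f⟩ := h1
  haveI := solvable_perm_four
  exact Group.isSolvable_of_isSolvable_injective (Equiv.Perm.viaEmbeddingHom_injective f)

/-- a homomorphism from a perfect group to a solvable group is trivial -/
theorem perfect_hom_eq_one {P S : Type*} [Group P] [Group S] (hP : Group.IsPerfect P)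
    (hS : Group.IsSolvable S) (f : P →* S) (x : P) : f x = 1 := by
  have h1 : Group.IsPerfect f.range := Group.IsPerfect.range f
  have h2 : Group.IsSolvable f.range := inferInstance
  have h3 : Subsingleton f.range := by
    by_contra hc
    rw [not_subsingleton_iff_nontrivial] at hc
    exact Group.IsPerfect.not_isSolvable f.range h2
  have h4 := congrArg Subtype.val (Subsingleton.elim (⟨f x, ⟨x, rfl⟩⟩ : f.range) 1)
  simpa using h4

/-- A perfect group acting on at most four points acts trivially. -/
theorem smul_eq {G Y : Type*} [Group G] [MulAction G Y] [Finite Y] (X : Subgroup G)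
    (hX : ⁅X, X⁆ = X) (h : Nat.card Y ≤ 4) {x : G} (hx : x ∈ X) (y : Y) : x • y = y := by
  have h1 : Group.IsPerfect X := Subgroup.isPerfect_iff.2 hX
  have h2 := perfect_hom_eq_one h1 (solvable_perm_of_card_le h)
    (MulAction.toPermHom X Y) ⟨x, hx⟩
  have h3 := congrArg (fun p : Perm Y => p y) h2
  exact h3

end Cfsg.Agent.H76.PermFour
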