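import Cfsg.Agent.H76.Num
import Cfsg.Agent.H75.Transfer

/-!
# Lower bound for the index in the minus type

`lower_of_stab` : if `H` stabilises a nonzero totally singular subspace, or a nonsingular point, the
bound holds. `lower_of_PP` : for `m ≥ 4` the bound holds if `PP Q H` is not empty.
-/

set_option autoImplicit false
set_option linter.unusedSectionVars false

namespace Cfsg.Agent.H76.Lower

open QuadraticMap Cfsg.Agent.LieClassical.OrthCore Cfsg.Agent.LieClassical.OrthTrans
open Cfsg.Agent.LieClassical.OrthFinite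
open Cfsg.Agent.H76.Trans Cfsg.Agent.H76.Act Cfsg.Agent.H76.Tri Cfsg.Agent.H76.Link
open Cfsg.Agent.H76.Num
open Cfsg.Agent.H75.OrthIdx (PP Us Ws Typ Com perp StT le_StT relIndex_ne mem_PP_StT
  finrank_Ws_StT finrank_perp_add finrank_span_pair_le sing_point_bound nonsing_point_bound
  ncard_ne_zero_sing)

variable {F V : Type*} [Field F] [AddCommGroup V] [Module F V] {Q : QuadraticForm F V}
variable [Finite F] [Finite V]

/-- `(q - 1)` times the number of singular points. -/
def bd (q m : ℕ) : ℕ := (q ^ m + 1) * (q ^ (m - 1) - 1)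

theorem MinusCount.ncard_sing {m : ℕ} (hC : MinusCount Q m) :
    {w : V | w ≠ 0 ∧ Q w = 0}.ncard = bd (Nat.card F) m := by
  have : FiniteDimensional F V := Module.finite_of_finrank_pos (by
    rw [hC.finrank]; have := hC.three; omega)
  have := Fintype.ofFinite F
  have h1 := ncard_ne_zero_sing Q
  have h0 := hC.zero
  have hq := two_le_card (F := F)
  obtain ⟨k, hk⟩ : ∃ k, m = k + 3 := ⟨m - 3, by have := hC.three; omega⟩
  subst hk
  have e2 : 2 * (k + 3) - 1 = 2 * k + 5 := by omega
  have e3 : k + 3 - 1 = k + 2 := by omega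
  rw [h1, e2, e3] at h0
  rw [bd, e3]
  obtain ⟨y, hy⟩ : ∃ y, Nat.card F ^ (k + 2) = y + 1 :=
    ⟨Nat.card F ^ (k + 2) - 1, by have : 0 < Nat.card F ^ (k + 2) := by positivity
                                  omega⟩
  have e4 : Nat.card F ^ (2 * k + 5) = Nat.card F * (y + 1) * (y + 1) := by rw [← hy]; ring
  have e5 : Nat.card F ^ (k + 3) = Nat.card F * (y + 1) := by rw [← hy]; ring
  rw [e4, e5, hy] at h0
  rw [e5, hy, Nat.add_sub_cancel]
  have h2 : Nat.card F * (y + 1) * (y + 1) = Nat.card F * (y + 1) * y + Nat.card F * (y + 1) := by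
    ring
  have h3 : (Nat.card F * (y + 1) + 1) * y = Nat.card F * (y + 1) * y + y := by ring
  omega

/-- A subgroup stabilising a singular point. -/
theorem lower_sing (hG : Good Q) {m : ℕ} (hC : MinusCount Q m) {H : Subgroup (V ≃ₗ[F] V)}
    (hH : H ≤ E Q) {t : V} (ht0 : t ≠ 0) (htQ : Q t = 0)
    (hst : ∀ h ∈ H, h t ∈ Submodule.span F {t}) :
    bd (Nat.card F) m ≤ (Nat.card F - 1) * H.relIndex (E Q) := by
  have : FiniteDimensional F V := Module.finite_of_finrank_pos (by
    rw [hC.finrank]; have := hC.three; omega)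
  have h1 := sing_point_bound hG hH ht0 htQ hst
  rw [MinusCount.ncard_sing hC] at h1
  rw [mul_comm]; exact h1

/-- A subgroup stabilising a nonsingular point. -/
theorem lower_nonsing (hG : Good Q) {m : ℕ} (hC : MinusCount Q m) {H : Subgroup (V ≃ₗ[F] V)}
    (hH : H ≤ E Q) {a : V} (haQ : Q a ≠ 0) (hst : ∀ h ∈ H, h a ∈ Submodule.span F {a}) :
    bd (Nat.card F) m ≤ (Nat.card F - 1) * H.relIndex (E Q) := by
  classical
  have : FiniteDimensional F V := Module.finite_of_finrank_pos (by
    rw [hC.finrank]; have := hC.three; omega)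
  have hq := two_le_card (F := F)
  -- `|V_c| ≤ n * k` with `k = 2` and `k = 1` in characteristic two
  have key : {w : V | Q w = Q a}.ncard ≤ H.relIndex (E Q) * (Nat.card F - 1) := by
    by_cases h2 : (2 : F) = 0
    · -- the stabiliser fixes `a`
      have hT : ({a} : Set V).ncard ≤ Nat.card F - 1 := by
        rw [Set.ncard_singleton]; omega
      refine (Cfsg.Agent.H75.OrthIdx.ncard_le_relIndex_mul (E Q) H (relIndex_ne _ _) (fun g y => g y)
        {a} (Set.toFinite _) _ ?_ ?_).trans (Nat.mul_le_mul_left _ hT)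
      · intro y hy
        have hy' : Q y = Q a := hy
        have ha0 : a ≠ 0 := by
          rintro rfl; exact haQ (QuadraticMap.map_zero Q)
        have hy0 : y ≠ 0 := by
          rintro rfl
          rw [QuadraticMap.map_zero] at hy'
          exact haQ hy'.symm
        obtain ⟨g, hg, hgt⟩ := hG.trans_norm ha0 hy0 hy'.symm
        exact ⟨g, hg, a, rfl, hgt⟩
      · rintro g hg n hn hnE x hx
        refine ⟨n x, ?_, rfl⟩
        have hx' : x = a := hx
        rw [hx']
        obtain ⟨c, hc⟩ := Submodule.mem_span_singleton.1 (hst n hn)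
        have h1 : Q (n a) = Q a := mem_O.1 (E_le_O hnE) a
        rw [← hc, QuadraticMap.map_smul, smul_eq_mul] at h1
        have h3 : (c - 1) * (c - 1) = 0 := by
          have h4 : (c * c - 1) * Q a = 0 := by linear_combination h1
          have h5 := (mul_eq_zero.1 h4).resolve_right haQ
          linear_combination h5 - (c - 1) * h2
        have h6 : c = 1 := sub_eq_zero.1 (mul_self_eq_zero.1 h3)
        rw [h6, one_smul] at hc
        exact hc.symm
    · have h1 := nonsing_point_bound hG hH haQ hst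
      have h3 : 2 ≤ Nat.card F - 1 := by
        have h4 : Nat.card F ≠ 2 := by
          intro h5
          have := Fintype.ofFinite F
          have h6 := Nat.cast_card_eq_zero F
          rw [← Nat.card_eq_fintype_card, h5] at h6
          exact h2 (by exact_mod_cast h6)
        omega
      exact h1.trans (Nat.mul_le_mul_left _ h3)
  rw [hC.ne_zero _ haQ] at key
  obtain ⟨k, hk⟩ : ∃ k, m = k + 3 := ⟨m - 3, by have := hC.three; omega⟩
  subst hk
  have e2 : 2 * (k + 3) - 1 = 2 * k + 5 := by omega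
  have e3 : k + 3 - 1 = k + 2 := by omega
  rw [e2, e3] at key
  rw [bd, e3, mul_comm (Nat.card F - 1)]
  refine le_trans ?_ key
  have h7 : Nat.card F ^ (k + 2) - 1 ≤ Nat.card F ^ (k + 2) := Nat.sub_le _ _
  calc (Nat.card F ^ (k + 3) + 1) * (Nat.card F ^ (k + 2) - 1)
      ≤ (Nat.card F ^ (k + 3) + 1) * Nat.card F ^ (k + 2) := Nat.mul_le_mul_left _ h7
    _ = _ := by ring

/-- A subgroup stabilising a nonzero totally singular subspace. -/
theorem lower_ts (hG : Good Q) {m : ℕ} (hC : MinusCount Q m)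
    (htyp : ∀ H' : Subgroup (V ≃ₗ[F] V), (Nat.card F - 1) * H'.relIndex (E Q) < bd (Nat.card F) m →
      Typ Q H') {H : Subgroup (V ≃ₗ[F] V)} (hHE : H ≤ E Q) {T : Submodule F V} (hT0 : T ≠ ⊥)
    (hTH : ∀ h ∈ H, ∀ x ∈ T, h x ∈ T) (hTs : ∀ x ∈ T, Q x = 0) :
    bd (Nat.card F) m ≤ (Nat.card F - 1) * H.relIndex (E Q) := by
  classical
  have : FiniteDimensional F V := Module.finite_of_finrank_pos (by
    rw [hC.finrank]; have := hC.three; omega)
  by_contra hcon
  push Not at hcon
  have hQ := hG.nondeg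
  have hd := hC.finrank
  have hm := hC.three
  obtain ⟨t, htT, ht0⟩ := (Submodule.ne_bot_iff T).1 hT0
  have htQ := hTs t htT
  by_cases hT2 : 2 ≤ Module.finrank F T
  · obtain ⟨e, h⟩ := exists_hyp hQ htQ ht0
    have h1 := mem_PP_StT T hTs hT2 htT h
    have h2 := finrank_Ws_StT T htT h
    have h3 : (StT Q T).relIndex (E Q) ≤ H.relIndex (E Q) :=
      Subgroup.relIndex_le_of_le_left (le_StT hHE hTH) (relIndex_ne _ _)
    have h4 : (Nat.card F - 1) * (StT Q T).relIndex (E Q) < bd (Nat.card F) m :=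
      lt_of_le_of_lt (Nat.mul_le_mul_left _ h3) hcon
    have h5 := hC.minus T hTs
    have h6 := finrank_perp_add hQ (Ws Q (StT Q T) e)
    have h9 : Module.finrank F (Us Q (StT Q T) e) =
      Module.finrank F (perp Q (Ws Q (StT Q T) e)) := rfl
    rcases htyp _ h4 e h1 with h7 | ⟨b, hb, heb, h7⟩
    · have h8 := hC.minus _ h7
      omega
    · have h8 := Submodule.finrank_mono h7
      have h10 := finrank_span_pair_le (F := F) e b
      omega
  · have hT1 : T = Submodule.span F {t} := by
      symm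
      apply Submodule.eq_of_le_of_finrank_le
      · exact (Submodule.span_singleton_le_iff_mem _ _).2 htT
      · rw [finrank_span_singleton ht0]; omega
    have h1 := lower_sing hG hC hHE ht0 htQ (fun h hh => by
      rw [← hT1]; exact hTH h hh t htT)
    omega

/-- A nontrivial additive character. -/
theorem exists_char : ∃ ψ : AddChar F ℂ, ψ ≠ 0 := by
  have := Fintype.ofFinite F
  obtain ⟨ψ, hψ⟩ := (AddChar.exists_apply_ne_zero (α := F) (a := 1)).2 one_ne_zero
  refine ⟨ψ, ?_⟩
  rintro rfl
  exact hψ rfl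

/-- **Lower bound, `m ≥ 4`, if `PP` is not empty.** -/
theorem lower_of_PP (hG : Good Q) {m : ℕ} (hC : MinusCount Q m) (hm4 : 4 ≤ m)
    {H : Subgroup (V ≃ₗ[F] V)} (hHE : H ≤ E Q) (hne : ¬ E Q ≤ H)
    (hPP : (Nat.card F - 1) * H.relIndex (E Q) < bd (Nat.card F) m → ∃ e, e ∈ PP Q H) :
    bd (Nat.card F) m ≤ (Nat.card F - 1) * H.relIndex (E Q) := by
  classical
  have : FiniteDimensional F V := Module.finite_of_finrank_pos (by
    rw [hC.finrank]; have := hC.three; omega)
  by_contra hcon
  push Not at hcon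
  obtain ⟨ψ, hψ⟩ := exists_char (F := F)
  have hd : 6 ≤ Module.finrank F V := by rw [hC.finrank]; omega
  have htyp : ∀ H' : Subgroup (V ≃ₗ[F] V),
      (Nat.card F - 1) * H'.relIndex (E Q) < bd (Nat.card F) m → Typ Q H' := fun H' hH' =>
    typ hG.nondeg hd hψ (allDich (Ω := Cos Q H') hG hC hψ hH' (Or.inr hm4))
  have hT := htyp H hcon
  obtain ⟨T, hT0, hTH, hTs | ⟨a, ha, rfl⟩⟩ :=
    Cfsg.Agent.H75.OrthIdx.exists_stab hG.nondeg (by rw [hC.finrank]; omega) hHE hne
      (com hG.nondeg hd hC.minus hT) hT (hPP hcon)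
  · have := lower_ts hG hC htyp hHE hT0 hTH hTs
    omega
  · have := lower_nonsing hG hC hHE ha fun h hh =>
      hTH h hh a (Submodule.mem_span_singleton_self a)
    omega

end Cfsg.Agent.H76.Lower
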